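import Cfsg.Agent.ODD.BG16.TheoremII

/-!
# B & G section 16: Theorems A-E, the types, Theorems I and II

`CL.BG.S16.sNNNN` is the frozen statement SNNNN, except for `s1380, s1385, s1390, s1391`, which are
stated with the working notions `TypeI`, `ftA`, `ftA0` of `ODD/BG16Def`.
-/
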