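import Cfsg.Agent.ODD.BG4.Basic
import Cfsg.Agent.ODD.BG4.Rank2
import Cfsg.Agent.ODD.BG4.Metacyclic
import Cfsg.Agent.ODD.BG4.Aut
import Cfsg.Agent.ODD.BG4.Huppert
import Cfsg.Agent.ODD.BG4.Blackburn

/-!
# Bender-Glauberman section 4 (4.1 - 4.16) and 1.13: interface (a list of imports)
-/
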