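import Cfsg.Agent.ODD.Defs
import Cfsg.Agent.ODD.PLength1
import Cfsg.Agent.ODD.BGB
import Cfsg.Agent.ODD.BG6.Main

/-!
# B & G section 6 (interface)

Theorem 6.1 is in `BGA`, Theorem 6.2 in `BGB` (imported here), Lemma 1.21 in `PLength1`.
-/
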