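import Cfsg.Agent.ODD.BG5.SCN
import Cfsg.Agent.ODD.BG5.Ucn
import Cfsg.Agent.ODD.BG5.Aut
import Cfsg.Agent.ODD.BG4b.PStruct
import Cfsg.Agent.ODD.BG4b.Fitting

/-!
# Bender–Glauberman section 5 (narrow `p`-groups)

The proofs are in `ODD/BG5/*` and `ODD/BG4b/*`.
-/
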