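import Cfsg.Agent.ODD.Defs2
import Cfsg.Agent.ODD.BG10.Trans
import Cfsg.Agent.ODD.BG10.Hall
import Cfsg.Agent.ODD.BG10.Sylow

/-!
# B & G section 10, 10.1 - 10.9: the subgroups `M_α`, `M_β`, `M_σ` (a list of imports)

`β(G)` is `IsIdealPrime p G`, `α(G)` is `¬ PRankLE p 2 G`; "`H` is not conjugate to `M`" is
`¬ ConjIn ⊤ M H`.
-/
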