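import Cfsg.Agent.ODD.BG7.MaxNormed
import Cfsg.Agent.ODD.BG7.Trans
import Cfsg.Agent.ODD.BG7.Constrained
import Cfsg.Agent.ODD.BG7.PLength

/-!
Interface of Bender–Glauberman section 7 (the transitivity theorem).
-/
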