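import Cfsg.Agent.ODD.BG11.TI
import Cfsg.Agent.ODD.BG11.Normal

/-!
Interface of Bender–Glauberman section 11 (exceptional maximal subgroups).
-/
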