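import Cfsg.Agent.ODD.BG12.Uniq
import Cfsg.Agent.ODD.BG12.Embed
import Cfsg.Agent.ODD.BG12c.B

/-!
# B & G 12.13 – 12.19
-/
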