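import Cfsg.Agent.ODD.BG12p
import Cfsg.Agent.ODD.BG12a
import Cfsg.Agent.ODD.BG12b
import Cfsg.Agent.ODD.BG12d
import Cfsg.Agent.ODD.BG12c
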