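import Cfsg.Agent.ODD.Defs2
import Cfsg.Agent.ODD.BG13.Central
import Cfsg.Agent.ODD.BG13.Tau1
import Cfsg.Agent.ODD.BG13.Asym
import Cfsg.Agent.ODD.BG13.Regular

/-!
# B & G section 13: prime action
-/
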