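import Cfsg.Agent.ODD.Defs2
import Cfsg.Agent.ODD.BG14.NonFitting
import Cfsg.Agent.ODD.BG14.Embed
import Cfsg.Agent.ODD.BG14.Dual
import Cfsg.Agent.ODD.BG14.Signalizer
import Cfsg.Agent.ODD.BG14.Ptype
import Cfsg.Agent.ODD.BG14.Decomp
import Cfsg.Agent.ODD.BG14.Last

/-!
# B & G section 14: maximal subgroups of type `P` and counting arguments
-/
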