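import Cfsg.Agent.ODD.Defs2
import Cfsg.Agent.ODD.Fcore
import Cfsg.Agent.ODD.BG15.Core
import Cfsg.Agent.ODD.BG15.Kappa
import Cfsg.Agent.ODD.BG15.Fitting
import Cfsg.Agent.ODD.BG15.NonTI
import Cfsg.Agent.ODD.BG15.Signalizer

/-!
# B & G section 15: the subgroup `M_F`

The Fitting core API (`Fcore_*`) is in `ODD/Fcore`; the results of the section are in the files
`ODD/BG15/*`.
-/
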