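import Cfsg.Agent.ODD.BG8.NonPcore
import Cfsg.Agent.ODD.BG8.Pcore

/-!
# B & G section 8: the Fitting subgroup of a maximal subgroup
-/
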